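import Mathlib.LinearAlgebra.Semisimple
import Mathlib.LinearAlgebra.Eigenspace.Semisimple
import Mathlib.LinearAlgebra.Projection
import Mathlib.LinearAlgebra.Matrix.ToLin
import Mathlib.LinearAlgebra.Matrix.Permutation
import Mathlib.LinearAlgebra.Matrix.Charpoly.Coeff
import Mathlib.LinearAlgebra.Matrix.Charpoly.Univ
import Mathlib.Algebra.Polynomial.Roots
import Mathlib.Algebra.MvPolynomial.Polynomial
import Mathlib.Algebra.DirectSum.LinearMap
import Mathlib.FieldTheory.IsAlgClosed.Basic

/-!
# Degenerating a matrix to its semisimple part inside its conjugation orbit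
-/

noncomputable section

open Finset

namespace ConjOrbit

universe u

variable {k : Type u} [Field k]

section Ring

variable {R : Type*} [Ring R] [Algebra k R]

/-- From "projections onto `ker N^i`" commuting with `S`: orthogonal idempotents `π i`, with
`π i * N * π j = 0` for `j ≤ i`. -/
lemma exists_flag_idempotents (S N : R) (hSN : Commute S N) (r : ℕ) (hr : N ^ r = 0) (P : ℕ → R)
    (hPS : ∀ i, Commute S (P i)) (hP0 : ∀ i, N ^ i * P i = 0)
    (hP1 : ∀ i Y, N ^ i * Y = 0 → P i * Y = Y) :
    ∃ π : ℕ → R, (∀ i, Commute S (π i)) ∧ (∀ i < r, π i * π i = π i) ∧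
      (∀ i < r, ∀ j < r, i ≠ j → π i * π j = 0) ∧ ∑ i ∈ range r, π i = 1 ∧
      (∀ i < r, ∀ j < r, j ≤ i → π i * N * π j = 0) := by
  let Q : ℕ → R := fun d => Nat.rec 1 (fun d q => P (r - (d + 1)) * q) d
  have hQ : ∀ d, d ≤ r → Commute S (Q d) ∧ N ^ (r - d) * Q d = 0 ∧
      ∀ Y, N ^ (r - d) * Y = 0 → Q d * Y = Y := by
    intro d
    induction d with
    | zero => intro _; exact ⟨Commute.one_right S, by simp [Q, hr], fun Y _ => one_mul Y⟩
    | succ d ih =>
      intro hd
      obtain ⟨h1, -, h3⟩ := ih (by omega)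
      refine ⟨(hPS _).mul_right h1, ?_, fun Y hY => ?_⟩
      · show N ^ (r - (d + 1)) * (P (r - (d + 1)) * Q d) = 0
        rw [← mul_assoc, hP0, zero_mul]
      · show P (r - (d + 1)) * Q d * Y = Y
        rw [mul_assoc, h3 Y, hP1 _ Y hY]
        rw [show r - d = (r - (d + 1)) + 1 by omega, pow_succ', mul_assoc, hY, mul_zero]
  let P' : ℕ → R := fun i => Q (r - i)
  have h0 : ∀ i, i ≤ r → N ^ i * P' i = 0 := fun i hi => by
    have := (hQ (r - i) (by omega)).2.1
    rwa [show r - (r - i) = i by omega] at this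
  have h1 : ∀ i, i ≤ r → ∀ Y, N ^ i * Y = 0 → P' i * Y = Y := fun i hi Y hY => by
    refine (hQ (r - i) (by omega)).2.2 Y ?_
    rwa [show r - (r - i) = i by omega]
  have hS' : ∀ i, Commute S (P' i) := fun i => (hQ (r - i) (by omega)).1
  have hbig : ∀ i j, i ≤ j → j ≤ r → P' j * P' i = P' i := by
    intro i j hij hjr
    refine h1 j hjr _ ?_
    rw [← Nat.sub_add_cancel hij, pow_add, mul_assoc, h0 i (hij.trans hjr), mul_zero]
  have hidem : ∀ i, i ≤ r → P' i * P' i = P' i := fun i hi => hbig i i le_rfl hi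
  have hstep : ∀ i, i < r → P' i = P i * P' (i + 1) := by
    intro i hi
    show Q (r - i) = P i * Q (r - (i + 1))
    rw [show r - i = (r - (i + 1)) + 1 by omega]
    show P (r - (r - (i + 1) + 1)) * Q (r - (i + 1)) = _
    rw [show r - (r - (i + 1) + 1) = i by omega]
  have hsmall : ∀ d i, i + d ≤ r → P' i * P' (i + d) = P' i := by
    intro d
    induction d with
    | zero => intro i hi; exact hidem i (by omega)
    | succ d ih =>
      intro i hi
      rw [hstep i (by omega), mul_assoc, show i + (d + 1) = (i + 1) + d by omega,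
        ih (i + 1) (by omega)]
  have hle : ∀ i j, i ≤ j → j ≤ r → P' i * P' j = P' i := fun i j hij hjr => by
    obtain ⟨d, rfl⟩ := Nat.exists_eq_add_of_le hij
    exact hsmall d i hjr
  refine ⟨fun i => P' (i + 1) - P' i, fun i => (hS' _).sub_right (hS' _), ?_, ?_, ?_, ?_⟩
  · intro i hi
    simp only [sub_mul, mul_sub, hidem (i + 1) hi, hidem i hi.le, hle i (i + 1) (by omega) hi,
      hbig i (i + 1) (by omega) hi, sub_self, sub_zero]
  · intro i hi j hj hij
    rcases lt_or_gt_of_ne hij with h | h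
    · simp only [sub_mul, mul_sub, hle (i + 1) (j + 1) (by omega) hj, hle (i + 1) j h hj.le,
        hle i (j + 1) (by omega) hj, hle i j h.le hj.le, sub_self]
    · simp only [sub_mul, mul_sub, hbig (j + 1) (i + 1) (by omega) hi, hbig j (i + 1) (by omega) hi,
        hbig (j + 1) i h hi.le, hbig j i h.le hi.le, sub_self]
  · rw [Finset.sum_range_sub P']
    have hr0 : P' 0 = 0 := by simpa using h0 0 (Nat.zero_le r)
    have hrr : P' r = 1 := by show Q (r - r) = 1; rw [Nat.sub_self]; rfl
    rw [hr0, hrr, sub_zero]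
  · intro i hi j hj hji
    have hkey : N ^ j * (N * (P' (j + 1) - P' j)) = 0 := by
      rw [← mul_assoc, ← pow_succ, mul_sub, h0 (j + 1) hj, pow_succ', mul_assoc, h0 j hj.le,
        mul_zero, sub_zero]
    have hge : ∀ i', j ≤ i' → i' ≤ r → P' i' * (N * (P' (j + 1) - P' j)) =
        N * (P' (j + 1) - P' j) := by
      intro i' hi' hi'r
      refine h1 i' hi'r _ ?_
      rw [← Nat.sub_add_cancel hi', pow_add, mul_assoc, hkey, mul_zero]
    rw [mul_assoc, sub_mul, hge (i + 1) (by omega) hi, hge i hji hi.le, sub_self]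

/-- The conjugate of `S + N` by `∑ s^{-i} π i`. -/
lemma conj_formula (S N : R) (r : ℕ) (π : ℕ → R) (hS : ∀ i, Commute S (π i))
    (h2 : ∀ i < r, π i * π i = π i) (ho : ∀ i < r, ∀ j < r, i ≠ j → π i * π j = 0)
    (h1 : ∑ i ∈ range r, π i = 1) (hN : ∀ i < r, ∀ j < r, j ≤ i → π i * N * π j = 0)
    (s : k) (hs : s ≠ 0) :
    (∑ i ∈ range r, (s⁻¹) ^ i • π i) * (∑ i ∈ range r, s ^ i • π i) = 1 ∧
    (∑ i ∈ range r, (s⁻¹) ^ i • π i) * (S + N) * (∑ i ∈ range r, s ^ i • π i) =
      S + ∑ i ∈ range r, ∑ j ∈ range r, s ^ (j - i) • (π i * N * π j) := by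
  have hinv : (∑ i ∈ range r, (s⁻¹) ^ i • π i) * (∑ i ∈ range r, s ^ i • π i) = 1 := by
    rw [Finset.sum_mul, ← h1]
    refine Finset.sum_congr rfl fun i hi => ?_
    rw [Finset.mem_range] at hi
    rw [Finset.mul_sum, Finset.sum_eq_single i]
    · rw [smul_mul_smul_comm, h2 i hi, inv_pow, inv_mul_cancel₀ (pow_ne_zero i hs), one_smul]
    · intro j hj hji
      rw [Finset.mem_range] at hj
      rw [smul_mul_smul_comm, ho i hi j hj (Ne.symm hji), smul_zero]
    · exact fun h => absurd (Finset.mem_range.2 hi) h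
  refine ⟨hinv, ?_⟩
  have hScomm : Commute S (∑ i ∈ range r, (s⁻¹) ^ i • π i) :=
    Commute.sum_right _ _ _ fun i _ => (hS i).smul_right _
  rw [mul_add, ← hScomm.eq, add_mul, mul_assoc S, hinv, mul_one, Finset.sum_mul, Finset.sum_mul]
  congr 1
  refine Finset.sum_congr rfl fun i hi => ?_
  rw [Finset.mem_range] at hi
  rw [Finset.mul_sum]
  refine Finset.sum_congr rfl fun j hj => ?_
  rw [Finset.mem_range] at hj
  rw [smul_mul_assoc, smul_mul_assoc, mul_smul_comm, smul_smul]
  rcases le_or_gt j i with hji | hij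
  · rw [hN i hi j hj hji, smul_zero, smul_zero]
  · congr 1
    rw [inv_pow, ← Nat.add_sub_cancel' hij.le, pow_add, ← mul_assoc,
      inv_mul_cancel₀ (pow_ne_zero i hs), one_mul, Nat.add_sub_cancel_left]

end Ring

/-- Projections onto the kernels commuting with a semisimple endomorphism. -/
lemma exists_projections {V : Type*} [AddCommGroup V] [Module k V] (S N : Module.End k V)
    (hS : S.IsSemisimple) (hSN : Commute S N) :
    ∃ P : ℕ → Module.End k V, (∀ i, Commute S (P i)) ∧ (∀ i, N ^ i * P i = 0) ∧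
      ∀ i Y, N ^ i * Y = 0 → P i * Y = Y := by
  have h : ∀ i : ℕ, ∃ P : Module.End k V, Commute S P ∧ N ^ i * P = 0 ∧
      ∀ Y, N ^ i * Y = 0 → P * Y = Y := by
    intro i
    have hp : LinearMap.ker (N ^ i) ∈ Module.End.invtSubmodule S := fun x hx => by
      rw [Submodule.mem_comap, LinearMap.mem_ker, ← Module.End.mul_apply,
        ← (hSN.pow_right i).eq, Module.End.mul_apply, LinearMap.mem_ker.1 hx, map_zero]
    obtain ⟨q, hq, hc⟩ := (Module.End.isSemisimple_iff.1 hS) _ hp
    let P := Submodule.projection (LinearMap.ker (N ^ i)) q hc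
    have hPl : ∀ a ∈ LinearMap.ker (N ^ i), P a = a := fun a ha =>
      Submodule.projection_apply_left hc ⟨a, ha⟩
    have hPr : ∀ b ∈ q, P b = 0 := fun b hb => Submodule.projection_apply_right hc ⟨b, hb⟩
    have hdec : ∀ x : V, ∃ a ∈ LinearMap.ker (N ^ i), ∃ b ∈ q, a + b = x := fun x =>
      Submodule.mem_sup.1 (hc.sup_eq_top ▸ Submodule.mem_top)
    refine ⟨P, LinearMap.ext fun x => ?_, LinearMap.ext fun x => ?_, fun Y hY =>
      LinearMap.ext fun x => ?_⟩
    · obtain ⟨a, ha, b, hb, rfl⟩ := hdec x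
      simp only [Module.End.mul_apply, map_add, hPl a ha, hPr b hb, hPl (S a) (hp ha),
        hPr (S b) (hq hb), map_zero]
    · obtain ⟨a, ha, b, hb, rfl⟩ := hdec x
      simp only [Module.End.mul_apply, map_add, hPl a ha, hPr b hb, add_zero, LinearMap.zero_apply,
        map_zero]
      exact ha
    · rw [Module.End.mul_apply]
      refine hPl _ ?_
      rw [LinearMap.mem_ker, ← Module.End.mul_apply, hY, LinearMap.zero_apply]
  choose P h1 h2 h3 using h
  exact ⟨P, h1, h2, h3⟩

variable {n : ℕ}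

/-- The entries as a point. -/
abbrev pt (M : Matrix (Fin n) (Fin n) k) : Fin n × Fin n → k := fun p => M p.1 p.2

/-- Closure membership spelled with polynomials. -/
def InOrbitClosure (B C : Matrix (Fin n) (Fin n) k) : Prop :=
  ∀ F : MvPolynomial (Fin n × Fin n) k,
    (∀ A : Matrix (Fin n) (Fin n) k, IsUnit A.det → MvPolynomial.eval (pt (A * B * A⁻¹)) F = 0) →
      MvPolynomial.eval (pt C) F = 0

theorem semisimplePart_mem_closure [Infinite k] (B S N : Matrix (Fin n) (Fin n) k)
    (hS : Module.End.IsSemisimple (Matrix.toLin' S)) (hN : IsNilpotent N) (hSN : Commute S N)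
    (hB : B = S + N) : InOrbitClosure B S := by
  intro F hF
  let e : Matrix (Fin n) (Fin n) k ≃ₐ[k] Module.End k (Fin n → k) := Matrix.toLinAlgEquiv'
  obtain ⟨P, hPS, hP0, hP1⟩ := exists_projections (e S) (e N) hS (hSN.map e)
  obtain ⟨r, hr⟩ := hN
  obtain ⟨π, hπS, h2, ho, h1, hπN⟩ := exists_flag_idempotents S N hSN r hr
    (fun i => e.symm (P i))
    (fun i => by
      have := (hPS i).map e.symm
      rwa [e.symm_apply_apply] at this)
    (fun i => e.injective (by rw [map_mul, map_pow, e.apply_symm_apply, hP0, map_zero]))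
    (fun i Y hY => e.injective (by
      rw [map_mul, e.apply_symm_apply]
      exact hP1 i (e Y) (by rw [← map_pow, ← map_mul, hY, map_zero])))
  let T : Fin n × Fin n → Polynomial k := fun p => Polynomial.C (S p.1 p.2) +
    ∑ i ∈ range r, ∑ j ∈ range r, Polynomial.C ((π i * N * π j) p.1 p.2) * Polynomial.X ^ (j - i)
  have hT : ∀ s : k, (MvPolynomial.aeval T F).eval s =
      MvPolynomial.eval (pt (S + ∑ i ∈ range r, ∑ j ∈ range r, s ^ (j - i) • (π i * N * π j))) F := by
    intro s
    rw [MvPolynomial.aeval_def, MvPolynomial.eval₂_eq_eval_map, ← Polynomial.coe_evalRingHom,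
      MvPolynomial.map_eval, MvPolynomial.map_map]
    rw [show (Polynomial.evalRingHom s).comp (algebraMap k (Polynomial k)) = RingHom.id k from
      RingHom.ext fun a => by simp, MvPolynomial.map_id]
    congr 2
    funext p
    simp only [T, pt, Function.comp_apply, Polynomial.coe_evalRingHom, Polynomial.eval_add, Polynomial.eval_C,
      Polynomial.eval_finsetSum, Polynomial.eval_mul, Polynomial.eval_pow, Polynomial.eval_X,
      Matrix.add_apply, Matrix.sum_apply, Matrix.smul_apply, smul_eq_mul]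
    refine congrArg _ (Finset.sum_congr rfl fun i _ => Finset.sum_congr rfl fun j _ => mul_comm _ _)
  have hzero : MvPolynomial.aeval T F = 0 := by
    refine Polynomial.eq_zero_of_infinite_isRoot _ ((Set.finite_singleton (0 : k)).infinite_compl.mono ?_)
    intro s hs
    obtain ⟨ha, hc⟩ := conj_formula (k := k) S N r π hπS h2 ho h1 hπN s hs
    set A := ∑ i ∈ range r, (s⁻¹) ^ i • π i
    set A' := ∑ i ∈ range r, s ^ i • π i
    show (MvPolynomial.aeval T F).eval s = 0
    rw [hT, ← hc, ← hB, ← Matrix.inv_eq_right_inv ha]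
    exact hF A (Matrix.isUnit_det_of_right_inverse ha)
  have h0 := hT 0
  rw [hzero, Polynomial.eval_zero] at h0
  have hsum : ∑ i ∈ range r, ∑ j ∈ range r, (0 : k) ^ (j - i) • (π i * N * π j) = 0 :=
    Finset.sum_eq_zero fun i hi => Finset.sum_eq_zero fun j hj => by
      rcases le_or_gt j i with h | h
      · rw [hπN i (Finset.mem_range.1 hi) j (Finset.mem_range.1 hj) h, smul_zero]
      · rw [zero_pow (by omega), zero_smul]
  rw [hsum, add_zero] at h0
  exact h0.symm

theorem InOrbitClosure.conj {B C : Matrix (Fin n) (Fin n) k} (h : InOrbitClosure B C)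
    (A : Matrix (Fin n) (Fin n) k) (hA : IsUnit A.det) : InOrbitClosure B (A * C * A⁻¹) := by
  intro F hF
  let X := Matrix.mvPolynomialX (Fin n) (Fin n) k
  let G : MvPolynomial (Fin n × Fin n) k :=
    MvPolynomial.aeval (fun p => (A.map MvPolynomial.C * X * A⁻¹.map MvPolynomial.C :
      Matrix (Fin n) (Fin n) (MvPolynomial (Fin n × Fin n) k)) p.1 p.2) F
  have hG : ∀ M, MvPolynomial.eval (pt M) G = MvPolynomial.eval (pt (A * M * A⁻¹)) F := by
    intro M
    simp only [G]
    rw [MvPolynomial.aeval_def, MvPolynomial.eval₂_eq_eval_map, MvPolynomial.map_eval,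
      MvPolynomial.map_map]
    rw [show (MvPolynomial.eval (pt M)).comp (algebraMap k (MvPolynomial (Fin n × Fin n) k)) =
      RingHom.id k from RingHom.ext fun a => by simp, MvPolynomial.map_id]
    congr 2
    funext p
    simp [pt, X, Matrix.mul_apply, map_sum, Matrix.mvPolynomialX]
  have := h G fun A' hA' => by
    rw [hG]
    have e : A * (A' * B * A'⁻¹) * A⁻¹ = (A * A') * B * (A * A')⁻¹ := by
      rw [Matrix.mul_inv_rev]; simp only [Matrix.mul_assoc]
    rw [e]
    exact hF _ (by rw [Matrix.det_mul]; exact hA.mul hA')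
  rwa [hG] at this

theorem InOrbitClosure.charpoly_eq {B C : Matrix (Fin n) (Fin n) k} (h : InOrbitClosure B C) :
    C.charpoly = B.charpoly := by
  refine Polynomial.ext fun i => ?_
  let F : MvPolynomial (Fin n × Fin n) k :=
    (Matrix.charpoly.univ k (Fin n)).coeff i - MvPolynomial.C (B.charpoly.coeff i)
  have hF : ∀ M, MvPolynomial.eval (pt M) F = M.charpoly.coeff i - B.charpoly.coeff i := by
    intro M
    simp only [F, map_sub, MvPolynomial.eval_C]
    congr 1
    exact Matrix.charpoly.univ_coeff_eval₂Hom (Fin n) (RingHom.id k) (pt M) i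
  have := h F fun A hA => by
    rw [hF, sub_eq_zero]
    obtain ⟨u, rfl⟩ := (Matrix.isUnit_iff_isUnit_det A).2 hA
    rw [Matrix.charpoly_units_conj]
  rwa [hF, sub_eq_zero] at this

lemma exists_diagonalization [IsAlgClosed k] (S : Matrix (Fin n) (Fin n) k)
    (hS : Module.End.IsSemisimple (Matrix.toLin' S)) :
    ∃ (U : Matrix (Fin n) (Fin n) k) (d : Fin n → k), IsUnit U.det ∧
      U * S * U⁻¹ = Matrix.diagonal d := by
  classical
  set f : Module.End k (Fin n → k) := Matrix.toLin' S with hf
  have hint : DirectSum.IsInternal f.eigenspace :=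
    DirectSum.isInternal_submodule_of_iSupIndep_of_iSup_eq_top f.eigenspaces_iSupIndep
      hS.iSup_eigenspace_eq_top
  let c := hint.collectedBasis fun μ => Module.finBasis k (f.eigenspace μ)
  haveI := Module.Basis.finiteDimensional_of_finite (Pi.basisFun k (Fin n))
  haveI : Finite (Σ μ : k, Fin (Module.finrank k (f.eigenspace μ))) := c.linearIndependent.finite
  haveI := Fintype.ofFinite (Σ μ : k, Fin (Module.finrank k (f.eigenspace μ)))
  let σ := c.indexEquiv (Pi.basisFun k (Fin n))
  let b := c.reindex σ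
  let d : Fin n → k := fun i => (σ.symm i).1
  have hb : ∀ i, f (b i) = d i • b i := fun i => by
    have : c (σ.symm i) ∈ f.eigenspace (d i) := hint.collectedBasis_mem _ _
    rw [Module.Basis.reindex_apply]
    exact Module.End.mem_eigenspace_iff.1 this
  let W := (Pi.basisFun k (Fin n)).toMatrix b
  have hWb : ∀ i j, W i j = b j i := fun i j => by simp [W, Module.Basis.toMatrix_apply]
  have hWdet : IsUnit W.det := by
    haveI := (Pi.basisFun k (Fin n)).invertibleToMatrix b
    exact Matrix.isUnit_det_of_invertible W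
  have hSW : S * W = W * Matrix.diagonal d := by
    ext i j
    rw [Matrix.mul_diagonal, hWb]
    have := congrFun (hb j) i
    simp only [f, Matrix.toLin'_apply, Matrix.mulVec, dotProduct, Pi.smul_apply, smul_eq_mul] at this
    rw [Matrix.mul_apply]
    simp only [hWb]
    rw [this, mul_comm]
  refine ⟨W⁻¹, d, ?_, ?_⟩
  · exact Matrix.isUnit_nonsing_inv_det W hWdet
  · rw [Matrix.nonsing_inv_nonsing_inv W hWdet, Matrix.mul_assoc, hSW, ← Matrix.mul_assoc,
      Matrix.nonsing_inv_mul W hWdet, Matrix.one_mul]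

theorem exists_conj_of_charpoly_eq [IsAlgClosed k] (S₁ S₂ : Matrix (Fin n) (Fin n) k)
    (h₁ : Module.End.IsSemisimple (Matrix.toLin' S₁))
    (h₂ : Module.End.IsSemisimple (Matrix.toLin' S₂)) (h : S₁.charpoly = S₂.charpoly) :
    ∃ A : Matrix (Fin n) (Fin n) k, IsUnit A.det ∧ A * S₁ * A⁻¹ = S₂ := by
  classical
  obtain ⟨U, d, hU, hd⟩ := exists_diagonalization S₁ h₁
  obtain ⟨U', d', hU', hd'⟩ := exists_diagonalization S₂ h₂
  have hcp : ∀ (U S : Matrix (Fin n) (Fin n) k), IsUnit U.det →
      (U * S * U⁻¹).charpoly = S.charpoly := fun U S hU => by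
    obtain ⟨u, rfl⟩ := (Matrix.isUnit_iff_isUnit_det U).2 hU
    rw [Matrix.charpoly_units_conj]
  rw [← hcp U S₁ hU, ← hcp U' S₂ hU', hd, hd', Matrix.charpoly_diagonal,
    Matrix.charpoly_diagonal] at h
  have hroots : (Finset.univ.val.map d) = (Finset.univ.val.map d') := by
    have h' := congrArg Polynomial.roots h
    simp only [Finset.prod_eq_multiset_prod] at h'
    rw [← Polynomial.roots_multiset_prod_X_sub_C (Finset.univ.val.map d),
      ← Polynomial.roots_multiset_prod_X_sub_C (Finset.univ.val.map d')]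
    simpa [Multiset.map_map, Function.comp_def] using h'
  obtain ⟨π, hπ⟩ : ∃ π : Equiv.Perm (Fin n), d ∘ π = d' := by
    have hc : ∀ a, Fintype.card {i // d' i = a} = Fintype.card {i // d i = a} := fun a => by
      have h' := congrArg (Multiset.count a) hroots
      simp only [Multiset.count_map] at h'
      simp only [Fintype.card_subtype, Finset.card_def, Finset.filter_val]
      simpa [eq_comm] using h'.symm
    exact ⟨Equiv.ofFiberEquiv fun a => Fintype.equivOfCardEq (hc a),
      funext fun i => Equiv.ofFiberEquiv_map _ i⟩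
  have hP : π.permMatrix k * Matrix.diagonal d = Matrix.diagonal d' * π.permMatrix k := by
    ext i j
    rw [Matrix.diagonal_mul, Matrix.mul_diagonal, Equiv.Perm.permMatrix, PEquiv.toMatrix_apply, ← hπ]
    by_cases hij : π i = j
    · simp [hij]
    · simp [hij]
  have hPu : IsUnit (π.permMatrix k).det := by
    rw [Matrix.det_permutation]
    exact (Equiv.Perm.sign π).isUnit.map (Int.castRingHom k)
  refine ⟨U'⁻¹ * π.permMatrix k * U, ?_, ?_⟩
  · rw [Matrix.det_mul, Matrix.det_mul]
    exact ((Matrix.isUnit_nonsing_inv_det U' hU').mul hPu).mul hU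
  · rw [Matrix.mul_inv_rev, Matrix.mul_inv_rev, Matrix.nonsing_inv_nonsing_inv U' hU']
    calc U'⁻¹ * π.permMatrix k * U * S₁ * (U⁻¹ * ((π.permMatrix k)⁻¹ * U'))
        = U'⁻¹ * (π.permMatrix k * (U * S₁ * U⁻¹) * (π.permMatrix k)⁻¹) * U' := by
          simp only [Matrix.mul_assoc]
      _ = U'⁻¹ * (U' * S₂ * U'⁻¹) * U' := by
          rw [hd, hd', hP, Matrix.mul_assoc (Matrix.diagonal d'), Matrix.mul_nonsing_inv _ hPu,
            Matrix.mul_one]
      _ = S₂ := by
          simp only [← Matrix.mul_assoc]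
          rw [Matrix.nonsing_inv_mul U' hU', Matrix.one_mul, Matrix.mul_assoc,
            Matrix.nonsing_inv_mul U' hU', Matrix.mul_one]

end ConjOrbit
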